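import Mathlib.RingTheory.Ideal.AssociatedPrime.Finiteness
import Mathlib.LinearAlgebra.TensorProduct.Finiteness
import Mathlib.LinearAlgebra.TensorProduct.RightExactness
import Mathlib.RingTheory.Flat.Basic
import Mathlib.RingTheory.LocalRing.ResidueField.Ideal

/-!
# Families of maps between flat modules which are fibrewise jointly injective

`g i : B → C i` linear maps between flat modules over a Noetherian ring, jointly injective after tensoring with
every residue field: they are jointly injective after tensoring with every module (`jointly_injective`), and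
`f ∈ R' ⊗ B` comes from `B` if all the `g i f` come from `C i` (`mem_range_of_forall`).
-/

set_option autoImplicit false
universe u v

open TensorProduct

namespace K629.TensSep

variable {R : Type u} [CommRing R] {B : Type u} [AddCommGroup B] [Module R B] [Module.Flat R B] {ι : Type v}
  {C : ι → Type u} [∀ i, AddCommGroup (C i)] [∀ i, Module R (C i)] [∀ i, Module.Flat R (C i)] (g : ∀ i, B →ₗ[R] C i)

/-- The family is jointly injective after tensoring with `M`. -/
def JI (M : Type u) [AddCommGroup M] [Module R M] : Prop :=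
  ∀ x : M ⊗[R] B, (∀ i, (g i).lTensor M x = 0) → x = 0

variable {g}

omit [Module.Flat R B] [∀ i, Module.Flat R (C i)] in
theorem lTensor_rTensor {M N : Type u} [AddCommGroup M] [Module R M] [AddCommGroup N] [Module R N] (φ : M →ₗ[R] N)
    (i : ι) (x : M ⊗[R] B) : (g i).lTensor N (φ.rTensor B x) = φ.rTensor (C i) ((g i).lTensor M x) := by
  rw [← LinearMap.comp_apply, ← LinearMap.comp_apply, LinearMap.lTensor_comp_rTensor, LinearMap.rTensor_comp_lTensor]

omit [∀ i, Module.Flat R (C i)] in
theorem JI.of_injective {M N : Type u} [AddCommGroup M] [Module R M] [AddCommGroup N] [Module R N] (φ : M →ₗ[R] N)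
    (hφ : Function.Injective φ) (h : JI g N) : JI g M := by
  intro x hx
  apply Module.Flat.rTensor_preserves_injective_linearMap φ hφ
  rw [map_zero]
  refine h _ fun i => ?_
  rw [lTensor_rTensor, hx i, map_zero]

omit [Module.Flat R B] in
theorem JI.of_exact {M₁ M₂ M₃ : Type u} [AddCommGroup M₁] [Module R M₁] [AddCommGroup M₂] [Module R M₂]
    [AddCommGroup M₃] [Module R M₃] (φ : M₁ →ₗ[R] M₂) (ψ : M₂ →ₗ[R] M₃) (hφ : Function.Injective φ)
    (hψ : Function.Surjective ψ) (hex : Function.Exact φ ψ) (h₁ : JI g M₁) (h₃ : JI g M₃) : JI g M₂ := by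
  intro x hx
  have h1 : ψ.rTensor B x = 0 := h₃ _ fun i => by rw [lTensor_rTensor, hx i, map_zero]
  obtain ⟨y, rfl⟩ := (rTensor_exact B hex hψ x).mp h1
  have h2 : y = 0 := h₁ _ fun i => by
    apply Module.Flat.rTensor_preserves_injective_linearMap φ hφ
    rw [map_zero, ← lTensor_rTensor, hx i]
  rw [h2, map_zero]

theorem jointly_injective [IsNoetherianRing R]
    (h : ∀ (P : Ideal R) [P.IsPrime] (x : P.ResidueField ⊗[R] B),
      (∀ i, (g i).lTensor P.ResidueField x = 0) → x = 0) (M : Type u) [AddCommGroup M] [Module R M] : JI g M := by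
  have hfin : ∀ (N : Type u) [AddCommGroup N] [Module R N], Module.Finite R N → JI g N := by
    intro N _ _ hN
    induction hN using IsNoetherianRing.induction_on_isQuotientEquivQuotientPrime R with
    | subsingleton N =>
      intro x _
      have : Subsingleton (N ⊗[R] B) := inferInstance
      exact Subsingleton.elim _ _
    | quotient N p e =>
      have := p.2
      let φ : (R ⧸ p.asIdeal) →ₗ[R] p.asIdeal.ResidueField :=
        (IsScalarTower.toAlgHom R (R ⧸ p.asIdeal) p.asIdeal.ResidueField).toLinearMap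
      have hφ : Function.Injective φ := p.asIdeal.injective_algebraMap_quotient_residueField
      exact JI.of_injective (φ ∘ₗ e.toLinearMap) (hφ.comp e.injective) (h p.asIdeal)
    | exact N₁ N₂ N₃ f f' hf hf' hff' h₁ h₃ => exact JI.of_exact f f' hf hf' hff' h₁ h₃
  intro x hx
  obtain ⟨N, hN, hxN⟩ := TensorProduct.exists_finite_submodule_left_of_setFinite {x} (Set.finite_singleton x)
  obtain ⟨y, hy⟩ := hxN rfl
  have h1 : y = 0 := hfin N hN _ fun i => by
    apply Module.Flat.rTensor_preserves_injective_linearMap N.subtype N.injective_subtype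
    rw [map_zero, ← lTensor_rTensor, hy, hx i]
  rw [← hy, h1, map_zero]

theorem mem_range_of_forall [IsNoetherianRing R] (g : ∀ i, B →ₗ[R] C i)
    (h : ∀ (P : Ideal R) [P.IsPrime] (x : P.ResidueField ⊗[R] B),
      (∀ i, (g i).lTensor P.ResidueField x = 0) → x = 0)
    (R' : Type u) [CommRing R'] [Algebra R R'] (f : R' ⊗[R] B)
    (hf : ∀ i, ∃ c : C i, (g i).lTensor R' f = 1 ⊗ₜ c) : ∃ b : B, f = 1 ⊗ₜ b := by
  let φ : R →ₗ[R] R' := Algebra.linearMap R R'
  let ψ : R' →ₗ[R] R' ⧸ LinearMap.range φ := (LinearMap.range φ).mkQ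
  have hex : Function.Exact φ ψ := LinearMap.exact_map_mkQ_range φ
  have hψ : Function.Surjective ψ := Submodule.mkQ_surjective _
  have h1 : ψ.rTensor B f = 0 := by
    refine jointly_injective h (R' ⧸ LinearMap.range φ) _ fun i => ?_
    obtain ⟨c, hc⟩ := hf i
    rw [lTensor_rTensor, hc, LinearMap.rTensor_tmul]
    have h2 : ψ 1 = 0 := by
      rw [Submodule.mkQ_apply, Submodule.Quotient.mk_eq_zero]
      exact ⟨1, map_one (algebraMap R R')⟩
    rw [h2, zero_tmul]
  obtain ⟨y, hy⟩ := (rTensor_exact B hex hψ f).mp h1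
  refine ⟨TensorProduct.lid R B y, ?_⟩
  rw [← hy]
  have h3 : y = 1 ⊗ₜ TensorProduct.lid R B y := by
    rw [← TensorProduct.lid_symm_apply, LinearEquiv.symm_apply_apply]
  conv_lhs => rw [h3]
  rw [LinearMap.rTensor_tmul]
  congr 1
  exact map_one (algebraMap R R')

end K629.TensSep
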