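import Groth.Agent.AbSch.K630.Basic
import Groth.Agent.AbSch.K452.Restr
import Groth.Agent.AbSch.K472.Res

/-!
# `n`-splittings: restriction and disjoint unions

* `res V D`: restriction of an extension to `V`; `ns_res`;
* `ns_of_disjoint`: `n`-splittings over the members of a decomposition in disjoint open subschemes glue.
-/

set_option autoImplicit false
universe u
open CategoryTheory CategoryTheory.Limits MonoidalCategory CartesianMonoidalCategory MonObj AlgebraicGeometry Opposite
open Groth.Agent.Etdl.H432.Sec K452.HomPts K771.HomEv K630.AbExt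

namespace K629.NSLoc

variable {S : Scheme.{u}} {T A : Over S} [GrpObj T] [IsCommMonObj T] [GrpObj A] [IsCommMonObj A]

/-- The restriction of an extension. -/
noncomputable def res (V : Over S) (D : Dat T A) : Dat (Red.bc V.hom T) (Red.bc V.hom A) where
  E := K452.Restr.resE V D.E
  i := K452.Restr.resI V D.i
  q := K452.Restr.resQ V D.q
  w := K452.Restr.resI_resQ V D.i D.q D.w
  ex := K452.Restr.shortExact_res V D.i D.q D.w D.ex

theorem ns_res (V : Over S) (D : Dat T A) (n : ℕ) (W : Over V.left) :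
    (res V D).NS n W ↔ D.NS n ((Over.map V.hom).obj W) := by
  rw [K472.AbRes.ns_iff (res V D) n W, K472.AbRes.ns_iff D n]
  constructor
  · rintro ⟨e, he⟩
    exact ⟨_, K452.Restr.isNSplit_of_res V he⟩
  · rintro ⟨e, he⟩
    exact ⟨_, K452.Restr.isNSplit_res V he⟩

theorem ns_res_one (V : Over S) (D : Dat T A) (n : ℕ) :
    (res V D).NS n (𝟙_ (Over V.left)) ↔ D.NS n V := by
  rw [ns_res]
  let e : (Over.map V.hom).obj (𝟙_ (Over V.left)) ≅ V := Over.isoMk (Iso.refl _) (by
    change 𝟙 _ ≫ V.hom = 𝟙 _ ≫ V.hom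
    rfl)
  exact ⟨fun h => h.restrict e.inv, fun h => h.restrict e.hom⟩

variable (D : Dat T A)

/-- `n`-splittings agreeing on overlaps glue. -/
theorem exists_glue {n : ℕ} {U : Over S} {I : Type*} {V : I → Over S} {g : ∀ i, V i ⟶ U} (hc : IsCov g)
    (τ : ∀ i, Γs D.H (V i)) (hτ : ∀ i, D.IsNS n (τ i))
    (hag : ∀ i j (Z : Over S) (a : Z ⟶ V i) (b : Z ⟶ V j), a ≫ g i = b ≫ g j → r D.H a (τ i) = r D.H b (τ j)) :
    ∃ σ : Γs D.H U, D.IsNS n σ ∧ ∀ i, r D.H (g i) σ = τ i := by
  obtain ⟨σ, hσ⟩ := glue D.H hc τ hag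
  refine ⟨σ, fun W h t => ?_, hσ⟩
  apply pt_injective
  have : ∀ x : W.left, ∃ (V' : Over S) (k : V' ⟶ W), Flat k.left ∧ LocallyOfFinitePresentation k.left ∧
      x ∈ Set.range k.left ∧ r (P T) k (m D.q W (ev σ h (sec t))) = r (P T) k (n • sec t) := by
    intro x
    obtain ⟨i, h1, h2, y, hy⟩ := hc (h.left x)
    obtain ⟨Q, a, b, hab, hpb, hpt⟩ := exists_pb h (g i)
    obtain ⟨z, hz, -⟩ := hpt x y hy.symm
    refine ⟨Q, a, ?_, ?_, ⟨z, hz⟩, ?_⟩
    · exact MorphismProperty.of_isPullback hpb.flip h1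
    · exact MorphismProperty.of_isPullback hpb.flip h2
    · rw [← m_r, ev_r', hab, map_nsmul, r_sec]
      have h3 := hσ i
      rw [show ev σ (b ≫ g i) (sec (a ≫ t)) = ev (τ i) b (sec (a ≫ t)) by rw [← ev_r, h3]]
      exact hτ i Q b (a ≫ t)
  rw [ext_local (P T) _ _ this]

/-- `n`-splittings over the members of a decomposition in disjoint open subschemes glue. -/
theorem ns_of_disjoint {n : ℕ} {U : Over S} {I : Type*} {V : I → Over S} (g : ∀ i, V i ⟶ U)
    (hg : ∀ i, IsOpenImmersion (g i).left) (hc : ∀ x : U.left, ∃ i, x ∈ Set.range (g i).left)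
    (hdisj : ∀ i j, i ≠ j → Disjoint (Set.range (g i).left) (Set.range (g j).left))
    (h : ∀ i, D.NS n (V i)) : D.NS n U := by
  choose τ hτ using h
  have hcov : IsCov g := fun x => by
    obtain ⟨i, hi⟩ := hc x
    have := hg i
    exact ⟨i, inferInstance, inferInstance, hi⟩
  obtain ⟨σ, hσ, -⟩ := exists_glue D hcov τ hτ (fun i j Z a b hab => by
    by_cases hij : i = j
    · subst hij
      have h1 : a = b := by
        have := hg i
        apply Over.OverMorphism.ext
        rw [← cancel_mono (g i).left, ← Over.comp_left, ← Over.comp_left, hab]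
      rw [h1]
    · refine ext_local D.H _ _ fun x => ?_
      refine absurd (hdisj i j hij) (Set.not_disjoint_iff.mpr ⟨(a ≫ g i).left x, ?_, ?_⟩)
      · exact ⟨a.left x, by rw [Over.comp_left, Scheme.Hom.comp_apply]⟩
      · rw [hab]
        exact ⟨b.left x, by rw [Over.comp_left, Scheme.Hom.comp_apply]⟩)
  exact ⟨σ, hσ⟩

end K629.NSLoc
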