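import Groth.Agent.AbSch.K629.NormCov
import Groth.Agent.AbSch.K629.NSLoc

/-!
# `n`-splittings over a finite normal covering, from `n`-splittings over normal bases
-/

set_option autoImplicit false
universe u
open CategoryTheory CategoryTheory.Limits MonoidalCategory CartesianMonoidalCategory MonObj AlgebraicGeometry Opposite
open Groth.Agent.Etdl.H432.Sec K452.HomPts K771.HomEv K630.AbExt

namespace K629.NormNS

/-- (NormExt) over the spectrum of a normal domain of finite type over `ℤ`, there are `n`-splittings. -/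
def NormExt : Prop :=
  ∀ (B : Type u) [CommRing B] [IsDomain B] [IsIntegrallyClosed B] [Algebra.FiniteType ℤ B]
    (T A : Over (Spec (CommRingCat.of B)))
    [GrpObj T] [IsCommMonObj T] [Smooth T.hom] [IsProper T.hom] [GeometricallyConnected T.hom]
    [GrpObj A] [IsCommMonObj A] [Smooth A.hom] [IsProper A.hom] [GeometricallyConnected A.hom] (D : Dat T A),
    ∃ n : ℕ, 0 < n ∧ D.NS n (𝟙_ (Over (Spec (CommRingCat.of B))))

/-- The spectrum of a normal domain is a normal scheme. -/
theorem isNormalScheme_spec (A : Type u) [CommRing A] [IsDomain A] [IsIntegrallyClosed A] :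
    Pi1.IsNormalScheme (Spec (CommRingCat.of A)) := by
  intro x
  have hx : x.asIdeal.IsPrime := x.isPrime
  let _ : Algebra A ((Spec (CommRingCat.of A)).presheaf.stalk x) := StructureSheaf.stalkAlgebra A x
  have h1 : IsLocalization.AtPrime ((Spec (CommRingCat.of A)).presheaf.stalk x) x.asIdeal :=
    StructureSheaf.IsLocalization.to_stalk A x
  have h2 : IsDomain ((Spec (CommRingCat.of A)).presheaf.stalk x) :=
    IsLocalization.isDomain_of_atPrime _ x.asIdeal
  exact ⟨h2, isIntegrallyClosed_of_isLocalization _ x.asIdeal.primeCompl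
    x.asIdeal.primeCompl_le_nonZeroDivisors⟩

theorem isNormalScheme_of_cover {X : Scheme.{u}} (h : ∀ x : X, ∃ (Y : Scheme.{u}) (f : Y ⟶ X),
    IsOpenImmersion f ∧ Pi1.IsNormalScheme Y ∧ x ∈ Set.range f) : Pi1.IsNormalScheme X := by
  intro x
  obtain ⟨Y, f, hf, hY, y, rfl⟩ := h x
  have e := (asIso (f.stalkMap y)).commRingCatIsoToRingEquiv
  obtain ⟨h1, h2⟩ := hY y
  exact ⟨e.toMulEquiv.isDomain _, IsIntegrallyClosed.of_equiv e.symm⟩

section

variable {I : Type u} [Finite I] (B : I → Type u) [∀ i, CommRing (B i)]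

omit [Finite I] in
theorem disjoint_eval {i j : I} (hij : i ≠ j) :
    Disjoint (Set.range (Spec.map (CommRingCat.ofHom (Pi.evalRingHom B i))))
      (Set.range (Spec.map (CommRingCat.ofHom (Pi.evalRingHom B j)))) := by
  classical
  refine Set.disjoint_iff_forall_ne.mpr ?_
  rintro _ ⟨x, rfl⟩ _ ⟨y, rfl⟩ e
  have h1 : (Pi.single j (1 : B j) : ∀ i, B i) ∈ (PrimeSpectrum.comap (Pi.evalRingHom B i) x).asIdeal := by
    change Pi.evalRingHom B i (Pi.single j (1 : B j)) ∈ x.asIdeal
    rw [Pi.evalRingHom_apply, Pi.single_eq_of_ne hij]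
    exact zero_mem _
  have e' : PrimeSpectrum.comap (Pi.evalRingHom B i) x = PrimeSpectrum.comap (Pi.evalRingHom B j) y := e
  rw [e'] at h1
  change Pi.evalRingHom B j (Pi.single j (1 : B j)) ∈ y.asIdeal at h1
  rw [Pi.evalRingHom_apply, Pi.single_eq_same] at h1
  exact y.2.ne_top ((Ideal.eq_top_iff_one _).mpr h1)

theorem exists_eval (x : Spec (CommRingCat.of (∀ i, B i))) :
    ∃ i, x ∈ Set.range (Spec.map (CommRingCat.ofHom (Pi.evalRingHom B i))) := by
  obtain ⟨y, hy⟩ := (sigmaSpec fun i => CommRingCat.of (B i)).surjective x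
  obtain ⟨⟨i, z⟩, rfl⟩ := (sigmaMk (fun i => Spec (CommRingCat.of (B i)))).surjective y
  refine ⟨i, z, ?_⟩
  rw [← hy, sigmaMk_mk, ← Scheme.Hom.comp_apply, ι_sigmaSpec]

end

theorem exists_fin_normal (H : NormExt.{u}) (R : Type u) [CommRing R] [Algebra.FiniteType ℤ R]
    (T A : Over (Spec (CommRingCat.of R)))
    [GrpObj T] [IsCommMonObj T] [Smooth T.hom] [IsProper T.hom] [GeometricallyConnected T.hom]
    [GrpObj A] [IsCommMonObj A] [Smooth A.hom] [IsProper A.hom] [GeometricallyConnected A.hom] (D : Dat T A) :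
    ∃ (V : Over (Spec (CommRingCat.of R))) (_ : IsFinite V.hom) (_ : Surjective V.hom),
      Pi1.IsNormalScheme V.left ∧ ∃ n : ℕ, 0 < n ∧ D.NS n V := by
  obtain ⟨I, hI, B, h1, h2, h3, h4, h5, h6, h7⟩ := K629.NormCov.exists_cover R
  let V : Over (Spec (CommRingCat.of R)) := Over.mk (Spec.map (CommRingCat.ofHom (algebraMap R (∀ i, B i))))
  let f : ∀ i, Over (Spec (CommRingCat.of R)) := fun i => Over.mk (Spec.map (CommRingCat.ofHom (algebraMap R (B i))))
  let g : ∀ i, f i ⟶ V := fun i => Over.homMk (Spec.map (CommRingCat.ofHom (Pi.evalRingHom B i))) (by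
    change Spec.map (CommRingCat.ofHom (Pi.evalRingHom B i)) ≫ Spec.map (CommRingCat.ofHom (algebraMap R (∀ i, B i))) =
      Spec.map (CommRingCat.ofHom (algebraMap R (B i)))
    rw [← Spec.map_comp]
    rfl)
  have hn : ∀ i, ∃ n : ℕ, 0 < n ∧ D.NS n (f i) := fun i => by
    have a1 := h3 i
    have a2 := h4 i
    have a3 := h5 i
    have b1 : Smooth (Red.bc (f i).hom A).hom := (inferInstance : Smooth (pullback.snd A.hom (f i).hom))
    have b2 : IsProper (Red.bc (f i).hom A).hom := (inferInstance : IsProper (pullback.snd A.hom (f i).hom))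
    have b3 : GeometricallyConnected (Red.bc (f i).hom A).hom :=
      (inferInstance : GeometricallyConnected (pullback.snd A.hom (f i).hom))
    have c1 : Smooth (Red.bc (f i).hom T).hom := (inferInstance : Smooth (pullback.snd T.hom (f i).hom))
    have c2 : IsProper (Red.bc (f i).hom T).hom := (inferInstance : IsProper (pullback.snd T.hom (f i).hom))
    have c3 : GeometricallyConnected (Red.bc (f i).hom T).hom :=
      (inferInstance : GeometricallyConnected (pullback.snd T.hom (f i).hom))
    obtain ⟨n, hn, h⟩ := H (B i) (Red.bc (f i).hom T) (Red.bc (f i).hom A) (K629.NSLoc.res (f i) D)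
    exact ⟨n, hn, (K629.NSLoc.ns_res_one (f i) D n).mp h⟩
  choose n hn hn' using hn
  have := Fintype.ofFinite I
  refine ⟨V, ?_, ?_, ?_, ∏ i, n i, Finset.prod_pos fun i _ => hn i, ?_⟩
  · have : Module.Finite R (∀ i, B i) := Module.Finite.pi
    exact (IsFinite.SpecMap_iff _).mpr (RingHom.finite_algebraMap.mpr this)
  · refine ⟨fun x => ?_⟩
    obtain ⟨i, y, hy⟩ := h7 x
    refine ⟨(g i).left y, ?_⟩
    rw [← Scheme.Hom.comp_apply, Over.w]
    exact hy
  · refine isNormalScheme_of_cover fun x => ?_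
    obtain ⟨i, hi⟩ := exists_eval B x
    have a1 := h3 i
    have a2 := h4 i
    exact ⟨_, _, (inferInstance : IsOpenImmersion (Spec.map (CommRingCat.ofHom (Pi.evalRingHom B i)))),
      isNormalScheme_spec (B i), hi⟩
  · refine K629.NSLoc.ns_of_disjoint D g (fun i => ?_) (fun x => exists_eval B x) (fun i j hij => disjoint_eval B hij)
      fun i => (hn' i).of_dvd (Finset.dvd_prod_of_mem _ (Finset.mem_univ i))
    exact (inferInstance : IsOpenImmersion (Spec.map (CommRingCat.ofHom (Pi.evalRingHom B i))))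

end K629.NormNS
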