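import Groth.Agent.AbSch.K629.FinRep
import Groth.Agent.AbSch.K630.Coc
import Groth.Agent.AbSch.K615.NormAmp
import Groth.Agent.AbSch.K452.GlueRep
import Groth.Agent.AbSch.K452.TorsKit
import Groth.Agent.AlgSp.K650.ThmK
import Groth.Agent.AlgSp.K610.SchLocus
import Groth.Agent.S9951
import Groth.Agent.S4381
import Groth.Agent.S2331
import Groth.Agent.S2332
import Groth.Agent.S2355
import Groth.Agent.Ega2.FiniteSet

/-!
# Representability of extensions which have an `n`-splitting over a finite covering of the base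

`0 → A → E → T → 0` an extension of abelian schemes over an affine Noetherian `S`, `V ⟶ S` finite surjective with `V`
normal, an `n`-splitting over `V`, affine opens of `A` and `T` containing the unit sections: `E` is a scheme
(`isRepresentable_of_fin`), by theorem K.
-/

set_option autoImplicit false
universe u
open CategoryTheory CategoryTheory.Limits MonoidalCategory CartesianMonoidalCategory MonObj AlgebraicGeometry
open CGrpSh Opposite

namespace K629.RepFin

open K630.AbExt K452.NSplit K452.Restr K594.Elem AlgSp K452.GlueRep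
open K452.TorsRep hiding map_up up_inj

variable {S : Scheme.{u}} {T A : Over S} [GrpObj T] [IsCommMonObj T] [GrpObj A] [IsCommMonObj A] (D : Dat T A)

theorem isNSplit_of_isNS {n : ℕ} {V : Over S} {τ : Groth.Agent.Etdl.H432.Sec.Γs D.H V} (h : D.IsNS n τ) :
    IsNSplit (E := D.E) D.q (n : ℤ) V (Dat.toSec τ) where
  proj := by
    rw [natCast_zsmul]
    exact Dat.q_toSec h
  add X g₁ g₂ t := (Dat.toSec_add τ g₁ g₂ t).symm

/-- An `n`-splitting over `V` is a morphism of sheaves on the big site of `V`. -/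
theorem exists_hom_res {n : ℕ} {V : Over S} (h : D.NS n V) :
    ∃ τ : pts Scheme.fppfPrecoverage (Red.bc V.hom T) ⟶ resE V D.E, τ ≫ resQ V D.q = (n : ℤ) • 𝟙 _ := by
  obtain ⟨τ, hτ⟩ := h
  let W : Over V.left := Over.mk (𝟙 V.left)
  have h1 := (isNSplit_of_isNS D hτ).pull (K452.HomPts.str W)
  obtain ⟨σ, hσ, -⟩ := (isNSplit_res V h1).exists_hom Over.mkIdTerminal
  exact ⟨σ, hσ⟩

/-- The extension over `V`: a group scheme, finite over the product. -/
theorem exists_grp_res [Smooth A.hom] [IsProper A.hom] [GeometricallyConnected A.hom] {n : ℕ} (hn : n ≠ 0)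
    {V : Over S} (h : D.NS n V) :
    ∃ (G : Over V.left) (_ : GrpObj G) (_ : IsCommMonObj G) (v : G ⟶ Red.bc V.hom A ⊗ Red.bc V.hom T),
      Nonempty (pts Scheme.fppfPrecoverage G ≅ resE V D.E) ∧ IsFinite v.left := by
  obtain ⟨σ, hσ⟩ := exists_hom_res D h
  have h1 : Smooth (Red.bc V.hom A).hom := (inferInstance : Smooth (pullback.snd A.hom V.hom))
  have h2 : IsProper (Red.bc V.hom A).hom := (inferInstance : IsProper (pullback.snd A.hom V.hom))
  have h3 : GeometricallyConnected (Red.bc V.hom A).hom :=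
    (inferInstance : GeometricallyConnected (pullback.snd A.hom V.hom))
  exact K629.FinRep.exists_grp_finite (resI V D.i) (resQ V D.q) _ (shortExact_res V D.i D.q D.w D.ex)
    (fun s => inferInstance) (n : ℤ) (by exact_mod_cast hn) σ hσ

section Pi

variable (V : Over S) {G : Over V.left} [GrpObj G] [IsCommMonObj G] (e : pts Scheme.fppfPrecoverage G ≅ resE V D.E)

/-- the covering of `E` -/
noncomputable def cov : (yon S).obj ((Over.map V.hom).obj G) ⟶ sets.obj D.E := secEquiv.symm (K452.GlueRep.sec V e)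

theorem isPullback_cov : IsPullback (cov D V e) ((yon S).map (toProd D.q V e)) (K452.TorsKit.proj D.q)
    ((yon S).map (fst T V)) := by
  have h := isRep_of_res (E := D.E) D.q V e
  have h' : IsRep (K452.TorsKit.proj D.q) (U := T ⊗ V) (⟨fst T V⟩ : ((yon S).obj T).obj.obj (op (T ⊗ V)))
      (toProd D.q V e) (K452.GlueRep.sec V e) :=
    ⟨(K452.TorsKit.proj_app_iff D.q _ _).mpr h.w, fun {X} a b h1 h2 => h.inj a b h1 h2, fun {X} t' x hx =>
      h.lift t' x ((K452.TorsKit.proj_app_iff D.q _ _).mp hx)⟩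
  have h2 := (isRep_iff_isPullback (K452.TorsKit.proj D.q) _ _ _).mpr h'
  rwa [K452.TorsKit.secEquiv_symm_mk] at h2

theorem repWith_cov (P : MorphismProperty Scheme.{u}) [P.IsStableUnderBaseChange] (hP : P V.hom) :
    RepWith P (cov D V e) := by
  refine K606.RepWithBasic.of_isPullback (isPullback_cov D V e).flip ((repWith_yon_map_iff _ _).2 ?_)
  exact P.pullback_fst T.hom V.hom hP

end Pi

section Ample

/-- A finite scheme over a product of schemes with relatively ample modules over an affine base: finite sets of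
points are in affine opens. -/
theorem exists_affine_of_finite {B : Scheme.{u}} [IsAffine B] (A T : Over B) [QuasiCompact A.hom] [QuasiCompact T.hom]
    [IsSeparated A.hom] [IsSeparated T.hom] (hA : ∃ L : A.left.Modules, RelAmple.IsRelAmple A.hom L)
    (hT : ∃ L : T.left.Modules, RelAmple.IsRelAmple T.hom L) {G : Over B} (v : G ⟶ A ⊗ T) [IsFinite v.left]
    (Z : Set G.left) (hZ : Z.Finite) : ∃ W : G.left.Opens, IsAffineOpen W ∧ Z ⊆ W := by
  obtain ⟨LA, hLA⟩ := hA
  obtain ⟨LT, hLT⟩ := hT
  have h1 := Groth.Agent.S2332.result A.hom T.hom LA hLA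
  obtain ⟨n, -, h2⟩ := Groth.Agent.S2331.result (pullback.snd A.hom T.hom) T.hom _ LT h1 hLT
  have h3 := h2 n le_rfl
  have hGcomp : (v.left ≫ pullback.snd A.hom T.hom ≫ T.hom) = G.hom := by
    have h4 := Over.w v
    have h5 : (A ⊗ T).hom = pullback.snd A.hom T.hom ≫ T.hom := by
      exact pullback.condition
    rw [← h5]
    exact h4
  have hqa : Mor2.IsQuasiAffine v.left := ⟨inferInstance, fun V hV => by
    have : IsAffine (v.left ⁻¹ᵁ V : Scheme.{u}) := hV.preimage v.left
    infer_instance⟩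
  have h6 := Groth.Agent.S2355.result (pullback.snd A.hom T.hom ≫ T.hom) v.left hqa _ h3
  rw [Groth.Agent.S4381.result] at h6
  have : IsSeparated G.hom := by
    rw [← hGcomp]
    infer_instance
  have : QuasiCompact G.hom := by
    rw [← hGcomp]
    infer_instance
  have : CompactSpace G.left := QuasiCompact.compactSpace_of_compactSpace G.hom
  have : G.left.IsSeparated := ⟨by
    have : IsSeparated (G.hom ≫ terminal.from _) := inferInstance
    rwa [terminal.comp_from] at this⟩
  obtain ⟨m, s, hs, -, hsa⟩ := Groth.Agent.Ega2.FiniteSet.exists_affine_genLocus_of_finite h6 Z hZ ⊤ (fun _ _ => trivial)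
  exact ⟨_, hsa, hs⟩

end Ample

section Main

theorem unit_bc_fst {S' : Scheme.{u}} (j : S' ⟶ S) (G : Over S) [GrpObj G] :
    (η[Red.bc j G] : 𝟙_ (Over S') ⟶ Red.bc j G).left ≫ pullback.fst G.hom j =
      j ≫ (η[G] : 𝟙_ (Over S) ⟶ G).left := by
  have h1 : (η[Red.bc j G] : 𝟙_ _ ⟶ Red.bc j G) =
      Functor.LaxMonoidal.ε (Over.pullback j) ≫ (Over.pullback j).map η[G] := rfl
  rw [h1, Over.comp_left, Category.assoc]
  have h2 : ((Over.pullback j).map η[G]).left ≫ pullback.fst G.hom j =
      pullback.fst (𝟙_ (Over S)).hom j ≫ (η[G] : 𝟙_ (Over S) ⟶ G).left :=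
    pullback.lift_fst _ _ _
  rw [h2, ← Category.assoc]
  congr 1
  have h3 : (Functor.LaxMonoidal.ε (Over.pullback j)).left ≫ pullback.snd (𝟙_ (Over S)).hom j = 𝟙 S' :=
    Over.w (Functor.LaxMonoidal.ε (Over.pullback j))
  have h4' : pullback.fst (𝟙_ (Over S)).hom j ≫ 𝟙 S = pullback.snd (𝟙_ (Over S)).hom j ≫ j :=
    pullback.condition
  have h4 : pullback.fst (𝟙_ (Over S)).hom j = pullback.snd (𝟙_ (Over S)).hom j ≫ j :=
    (Category.comp_id _).symm.trans h4'
  rw [h4, ← Category.assoc, h3]
  exact Category.id_comp j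

/-- Abelian schemes become relatively ample over normal schemes finite over the base. -/
theorem exists_isRelAmple_bc [IsAffine S] (B : Over S) [GrpObj B] [IsCommMonObj B] [Smooth B.hom] [IsProper B.hom]
    [GeometricallyConnected B.hom] (V : Over S) [IsAffineHom V.hom] [IsLocallyNoetherian V.left]
    (hV : Pi1.IsNormalScheme V.left) (W : B.left.Opens) (hW : IsAffineOpen W)
    (hW' : ∀ s : S, (η[B] : 𝟙_ (Over S) ⟶ B).left s ∈ W) :
    ∃ L : (Red.bc V.hom B).left.Modules, RelAmple.IsRelAmple (Red.bc V.hom B).hom L := by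
  have h1 : Smooth (Red.bc V.hom B).hom := (inferInstance : Smooth (pullback.snd B.hom V.hom))
  have h2 : IsProper (Red.bc V.hom B).hom := (inferInstance : IsProper (pullback.snd B.hom V.hom))
  have h3 : GeometricallyConnected (Red.bc V.hom B).hom :=
    (inferInstance : GeometricallyConnected (pullback.snd B.hom V.hom))
  have h4 : GeometricallyIntegral (Red.bc V.hom B).hom := K448.SmoothConn.geometricallyIntegral _
  have h5 : IsAffine V.left := isAffine_of_isAffineHom V.hom
  let pr : (Red.bc V.hom B).left ⟶ B.left := pullback.fst B.hom V.hom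
  have h6 : IsAffineHom pr := MorphismProperty.pullback_fst _ _ inferInstance
  refine K615.NormAmp.exists_isRelAmple (Red.bc V.hom B) hV (pr ⁻¹ᵁ W) (hW.preimage pr) fun s => ?_
  change pr ((η[Red.bc V.hom B] : 𝟙_ (Over V.left) ⟶ Red.bc V.hom B).left s) ∈ W
  have h7 : (η[Red.bc V.hom B] : 𝟙_ (Over V.left) ⟶ Red.bc V.hom B).left ≫ pr = V.hom ≫ (η[B] : 𝟙_ (Over S) ⟶ B).left := unit_bc_fst V.hom B
  rw [← Scheme.Hom.comp_apply, h7, Scheme.Hom.comp_apply]
  exact hW' _

theorem isLocNoethSp [IsLocallyNoetherian S] [Smooth A.hom] [LocallyOfFiniteType T.hom] :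
    IsLocNoethSp (sets.obj D.E) := by
  have hT : IsLocallyNoetherian T.left := LocallyOfFiniteType.isLocallyNoetherian T.hom
  refine Groth.Agent.S9951.result (X := ⟨sets.obj D.E, K452.TorsKit.isAlgSpace D.i D.q D.w D.ex⟩)
    (Y := ⟨(yon S).obj T, IsAlgSpace.yon_obj T⟩) ⟨K452.TorsKit.proj D.q⟩ ?_ ?_
  · exact K597.locP_mono (fun X Y f hf => by
      have : Smooth f := hf
      exact (inferInstance : LocallyOfFiniteType f)) (K452.TorsKit.locP_smooth D.i D.q D.w D.ex)
  · exact ⟨T, 𝟙 _, repWith_id _ _, repWith_id _ _, hT⟩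

/-- **Representability of extensions with an `n`-splitting over a finite normal covering of the base.** -/
theorem isRepresentable_of_fin [IsAffine S] [IsLocallyNoetherian S] [Smooth A.hom] [IsProper A.hom]
    [GeometricallyConnected A.hom] [Smooth T.hom] [IsProper T.hom] [GeometricallyConnected T.hom]
    (V : Over S) [IsFinite V.hom] [Surjective V.hom] (hV : Pi1.IsNormalScheme V.left)
    {n : ℕ} (hn : n ≠ 0) (h : D.NS n V)
    (WA : A.left.Opens) (hWA : IsAffineOpen WA) (hWA' : ∀ s : S, (η[A] : 𝟙_ (Over S) ⟶ A).left s ∈ WA)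
    (WT : T.left.Opens) (hWT : IsAffineOpen WT) (hWT' : ∀ s : S, (η[T] : 𝟙_ (Over S) ⟶ T).left s ∈ WT) :
    (sets.obj D.E).obj.IsRepresentable := by
  have hVn : IsLocallyNoetherian V.left := LocallyOfFiniteType.isLocallyNoetherian V.hom
  have hVa : IsAffine V.left := isAffine_of_isAffineHom V.hom
  obtain ⟨G, g1, g2, v, ⟨e⟩, hv⟩ := exists_grp_res D hn h
  have hfin := repWith_cov D V e @IsFinite inferInstance
  have hsurj := repWith_cov D V e @Surjective inferInstance
  have hX : IsAlgSpace (sets.obj D.E) := K452.TorsKit.isAlgSpace D.i D.q D.w D.ex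
  have hgood := K650.ThmK.good hX (isLocNoethSp D)
  refine (K610.SchLocus.isRepresentable_iff_forall (X := ⟨sets.obj D.E, hX⟩)).mpr fun x => ?_
  have hx : (Points.ofPt (cov D V e) ⁻¹' {x}).Finite := K650.ThmK.finite_preimage hX hfin (Set.finite_singleton x)
  have i1 : QuasiCompact (Red.bc V.hom A).hom := (inferInstance : QuasiCompact (pullback.snd A.hom V.hom))
  have i2 : QuasiCompact (Red.bc V.hom T).hom := (inferInstance : QuasiCompact (pullback.snd T.hom V.hom))
  have i3 : IsSeparated (Red.bc V.hom A).hom := (inferInstance : IsSeparated (pullback.snd A.hom V.hom))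
  have i4 : IsSeparated (Red.bc V.hom T).hom := (inferInstance : IsSeparated (pullback.snd T.hom V.hom))
  obtain ⟨W, hW, hxW⟩ := exists_affine_of_finite (Red.bc V.hom A) (Red.bc V.hom T)
    (exists_isRelAmple_bc A V hV WA hWA hWA') (exists_isRelAmple_bc T V hV WT hWT hWT') v _ hx
  obtain ⟨Z, hZ, hxZ⟩ := (hgood _ (cov D V e) hfin hsurj {x} (Set.finite_singleton x) W hW
    (fun y hy => hxW hy)).isSch
  exact ⟨Z, hZ, hxZ rfl⟩

end Main

end K629.RepFin
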