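import Groth.Agent.AbSch.K629.NormNS
import Groth.Agent.AbSch.K629.RepFin
import Groth.Agent.AbSch.K615.RepAb

/-!
# Extensions of abelian schemes over algebras of finite type over `ℤ` are representable, given (NormExt)
-/

set_option autoImplicit false
universe u
open CategoryTheory CategoryTheory.Limits MonoidalCategory CartesianMonoidalCategory MonObj AlgebraicGeometry
open CGrpSh Opposite

namespace K629.Asm

open K630.AbExt K452.NSplit K452.Restr K594.Elem AlgSp K452.GlueRep K629.NSLoc K629.NormNS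
open K452.TorsRep hiding map_up up_inj

section Rep

variable {S : Scheme.{u}} {T : Over S} [GrpObj T] [IsCommMonObj T] {E : BigSite.Ab Scheme.fppfPrecoverage S}
  (q : E ⟶ pts Scheme.fppfPrecoverage T)

/-- Representability over the base `T` implies representability. -/
theorem isRepresentable_of_isRep {V : Over S} {v : V ⟶ T} {ξ : E.obj.obj (op V)}
    (h : IsRep (sets.map q) (U := T) (up (𝟙 T) : (sets.obj (pts Scheme.fppfPrecoverage T)).obj.obj (op T)) v ξ) :
    (sets.obj E).obj.IsRepresentable := by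
  have hw : q.hom.app (op V) ξ = up v := h.w.trans (map_up_id v)
  have hbij : ∀ W : Over S, Function.Bijective (fun t : W ⟶ V => E.obj.map t.op ξ) := by
    intro W
    constructor
    · intro a b hab
      refine h.inj a b ?_ hab
      have h1 := congrArg (q.hom.app (op W)) hab
      change q.hom.app (op W) (E.obj.map a.op ξ) = q.hom.app (op W) (E.obj.map b.op ξ) at h1
      rw [K452.NSplit.app_map, K452.NSplit.app_map, hw] at h1
      exact K452.NSplit.up_inj h1
    · intro x
      obtain ⟨t, ht⟩ := exists_up (q.hom.app (op W) x)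
      obtain ⟨k, hk1, hk2⟩ := h.lift t x (ht.trans (map_up_id t).symm)
      exact ⟨k, hk2⟩
  refine ⟨V, ⟨?_⟩⟩
  exact
    { homEquiv := fun {W} => Equiv.ofBijective _ (hbij W)
      homEquiv_comp := fun {W W'} f g => by
        change E.obj.map (f ≫ g).op ξ = E.obj.map f.op (E.obj.map g.op ξ)
        rw [op_comp, E.obj.map_comp]
        rfl }

end Rep

/-- Affine neighbourhoods of the unit section, locally on the base. -/
theorem exists_basic {Λ : Type u} [CommRing Λ] (B : Over (Spec (CommRingCat.of Λ))) [GrpObj B]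
    (s : Spec (CommRingCat.of Λ)) : ∃ (W : B.left.Opens) (U : (Spec (CommRingCat.of Λ)).Opens),
      IsAffineOpen W ∧ s ∈ U ∧ ∀ x ∈ U, (η[B] : 𝟙_ (Over (Spec (CommRingCat.of Λ))) ⟶ B).left x ∈ W := by
  obtain ⟨_, ⟨W, hW, rfl⟩, hsW, -⟩ := B.left.isBasis_affineOpens.exists_subset_of_mem_open
    (a := (η[B] : 𝟙_ (Over (Spec (CommRingCat.of Λ))) ⟶ B).left s) (by trivial) isOpen_univ
  exact ⟨W, (η[B] : 𝟙_ (Over (Spec (CommRingCat.of Λ))) ⟶ B).left ⁻¹ᵁ W, hW, hsW, fun x hx => hx⟩

theorem finiteType_int_away {R : Type u} [CommRing R] [hR : Algebra.FiniteType ℤ R] (f : R) :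
    @Algebra.FiniteType ℤ (Localization.Away f) _ _ (Ring.toIntAlgebra _) := by
  have hft0 : (algebraMap R (Localization.Away f)).FiniteType :=
    RingHom.finiteType_algebraMap.2 (IsLocalization.finiteType_of_monoid_fg (Submonoid.powers f) _)
  have hft1 : (algebraMap ℤ R).FiniteType := RingHom.finiteType_algebraMap.2 hR
  have hft2 : ((algebraMap R (Localization.Away f)).comp (algebraMap ℤ R)).FiniteType := hft0.comp hft1
  have h5 : @algebraMap ℤ (Localization.Away f) _ _ (Ring.toIntAlgebra _) =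
      (algebraMap R (Localization.Away f)).comp (algebraMap ℤ R) := Subsingleton.elim _ _
  rw [← h5] at hft2
  exact (@RingHom.finiteType_algebraMap ℤ (Localization.Away f) _ _ (Ring.toIntAlgebra _)).1 hft2

/-- The local statement. -/
theorem exists_local (H : NormExt.{u}) {Λ : Type u} [CommRing Λ] [Algebra.FiniteType ℤ Λ]
    (T A : Over (Spec (CommRingCat.of Λ)))
    [GrpObj T] [IsCommMonObj T] [Smooth T.hom] [IsProper T.hom] [GeometricallyConnected T.hom]
    [GrpObj A] [IsCommMonObj A] [Smooth A.hom] [IsProper A.hom] [GeometricallyConnected A.hom] (D : Dat T A)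
    (s : Spec (CommRingCat.of Λ)) : ∃ (U : Over (Spec (CommRingCat.of Λ))), IsOpenImmersion U.hom ∧
      (∃ x : U.left, U.hom x = s) ∧ ∃ (G : Over U.left) (_ : GrpObj G) (_ : IsCommMonObj G),
      Nonempty (pts Scheme.fppfPrecoverage G ≅ resE U D.E) := by
  obtain ⟨WA, UA, hWA, hsA, hA⟩ := exists_basic A s
  obtain ⟨WT, UT, hWT, hsT, hT⟩ := exists_basic T s
  obtain ⟨_, ⟨_, ⟨f, rfl⟩, rfl⟩, hsf, hfU⟩ := PrimeSpectrum.isBasis_basic_opens.exists_subset_of_mem_open
    (a := s) (u := ((UA ⊓ UT : (Spec (CommRingCat.of Λ)).Opens) : Set (Spec (CommRingCat.of Λ)))) ⟨hsA, hsT⟩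
    (UA ⊓ UT).isOpen
  have hft := finiteType_int_away (R := Λ) f
  have hN : IsNoetherianRing (Localization.Away f) :=
    (@Groth.Agent.Sga2lef.H98.GoodLevel.isNagata_of_finiteType_int _ _ hft).1
  let j : Spec (CommRingCat.of (Localization.Away f)) ⟶ Spec (CommRingCat.of Λ) :=
    Spec.map (CommRingCat.ofHom (algebraMap Λ (Localization.Away f)))
  have hj : IsOpenImmersion j := IsOpenImmersion.of_isLocalization f
  have hrange : ∀ x : Spec (CommRingCat.of Λ), x ∈ Set.range j ↔
      x ∈ (PrimeSpectrum.basicOpen f : Set (PrimeSpectrum Λ)) := fun x =>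
    (Set.ext_iff.mp (PrimeSpectrum.localization_away_comap_range (Localization.Away f) f) x)
  let U : Over (Spec (CommRingCat.of Λ)) := Over.mk j
  have b1 : Smooth (Red.bc U.hom A).hom := (inferInstance : Smooth (pullback.snd A.hom j))
  have b2 : IsProper (Red.bc U.hom A).hom := (inferInstance : IsProper (pullback.snd A.hom j))
  have b3 : GeometricallyConnected (Red.bc U.hom A).hom :=
    (inferInstance : GeometricallyConnected (pullback.snd A.hom j))
  have c1 : Smooth (Red.bc U.hom T).hom := (inferInstance : Smooth (pullback.snd T.hom j))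
  have c2 : IsProper (Red.bc U.hom T).hom := (inferInstance : IsProper (pullback.snd T.hom j))
  have c3 : GeometricallyConnected (Red.bc U.hom T).hom :=
    (inferInstance : GeometricallyConnected (pullback.snd T.hom j))
  obtain ⟨V, hV1, hV2, hV3, n, hn, hns⟩ := @exists_fin_normal H (Localization.Away f) _ hft (Red.bc U.hom T)
    (Red.bc U.hom A) _ _ _ _ _ _ _ _ _ _ (res U D)
  have hunit : ∀ (B : Over (Spec (CommRingCat.of Λ))) [GrpObj B] (W : B.left.Opens), IsAffineOpen W →
      (∀ x ∈ (PrimeSpectrum.basicOpen f : Set (PrimeSpectrum Λ)), (η[B] : 𝟙_ (Over (Spec (CommRingCat.of Λ))) ⟶ B).left x ∈ W) →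
      ∃ W' : (Red.bc U.hom B).left.Opens, IsAffineOpen W' ∧
        ∀ x : U.left, (η[Red.bc U.hom B] : 𝟙_ (Over U.left) ⟶ Red.bc U.hom B).left x ∈ W' := by
    intro B _ W hW hWB
    let pr : (Red.bc U.hom B).left ⟶ B.left := pullback.fst B.hom j
    have hpr : IsAffineHom pr := MorphismProperty.pullback_fst _ _ inferInstance
    refine ⟨pr ⁻¹ᵁ W, hW.preimage pr, fun x => ?_⟩
    change pr ((η[Red.bc U.hom B] : 𝟙_ (Over U.left) ⟶ Red.bc U.hom B).left x) ∈ W
    have h7 : (η[Red.bc U.hom B] : 𝟙_ (Over U.left) ⟶ Red.bc U.hom B).left ≫ pr =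
        j ≫ (η[B] : 𝟙_ (Over (Spec (CommRingCat.of Λ))) ⟶ B).left := K629.RepFin.unit_bc_fst j B
    rw [← Scheme.Hom.comp_apply, h7, Scheme.Hom.comp_apply]
    exact hWB _ ((hrange _).mp ⟨x, rfl⟩)
  obtain ⟨WA', hWA', hA'⟩ := hunit A WA hWA fun x hx => hA x (hfU hx).1
  obtain ⟨WT', hWT', hT'⟩ := hunit T WT hWT fun x hx => hT x (hfU hx).2
  have hrep := K629.RepFin.isRepresentable_of_fin (S := Spec (CommRingCat.of (Localization.Away f))) (res U D) V hV3
    hn.ne' hns WA' hWA' hA' WT' hWT' hT'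
  obtain ⟨G, v, ξ, hG⟩ := K615.RepAb.isRep_of_isRepresentable (res U D).q hrep
  obtain ⟨g1, g2, e, -, -⟩ := K452.TorsRep.exists_grp_of_isRep (res U D).q v ξ hG
  exact ⟨U, hj, (hrange s).mpr hsf, G, g1, g2, ⟨e⟩⟩

/-- **Extensions of abelian schemes over algebras of finite type over `ℤ` are representable**, given (NormExt). -/
theorem isRepresentable (H : NormExt.{u}) {Λ : Type u} [CommRing Λ] [Algebra.FiniteType ℤ Λ]
    (T A : Over (Spec (CommRingCat.of Λ)))
    [GrpObj T] [IsCommMonObj T] [Smooth T.hom] [IsProper T.hom] [GeometricallyConnected T.hom]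
    [GrpObj A] [IsCommMonObj A] [Smooth A.hom] [IsProper A.hom] [GeometricallyConnected A.hom] (D : Dat T A) :
    (sets.obj D.E).obj.IsRepresentable := by
  choose U h1 h2 h3 using exists_local H T A D
  obtain ⟨V, v, ξ, h⟩ := exists_isRep_of_local D.q U h1 (fun s => ⟨s, h2 s⟩) h3
  exact isRepresentable_of_isRep D.q h

end K629.Asm
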