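import Groth.Agent.AbSch.K630.Dvr
import Groth.Agent.Models.WeilGlue

/-!
# Extension of a given `n`-splitting over a trait `Spec R ⟶ S`
-/

set_option autoImplicit false
universe u
open CategoryTheory CategoryTheory.Limits MonoidalCategory CartesianMonoidalCategory MonObj AlgebraicGeometry Opposite

noncomputable section

namespace K629.DvrExt

open Groth.Agent.Etdl.H432.Sec K452.HomPts K771.HomEv K630.AbExt

variable {S : Scheme.{u}}

/-- The generic point of a trait of `S`. -/
abbrev gn {R : Type u} [CommRing R] (v : Spec (CommRingCat.of R) ⟶ S) : Over S :=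
  Over.mk (Spec.map (CommRingCat.ofHom (algebraMap R (FractionRing R))) ≫ v)

/-- The inclusion of the generic point. -/
def gj {R : Type u} [CommRing R] (v : Spec (CommRingCat.of R) ⟶ S) : gn v ⟶ Over.mk v :=
  Over.homMk (Spec.map (CommRingCat.ofHom (algebraMap R (FractionRing R)))) rfl

theorem isPullback_whisker {V W : Over S} (Y : Over S) (j : W ⟶ V) :
    IsPullback (Y ◁ j) (snd Y W) (snd Y V) j := by
  refine IsPullback.of_isLimit' ⟨by rw [whiskerLeft_snd]⟩ (PullbackCone.IsLimit.mk _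
    (fun s => lift (s.fst ≫ fst Y V) s.snd) (fun s => ?_) (fun s => lift_snd _ _) (fun s m h1 h2 => ?_))
  · apply CartesianMonoidalCategory.hom_ext
    · rw [Category.assoc, whiskerLeft_fst, lift_fst]
    · rw [Category.assoc, whiskerLeft_snd, lift_snd_assoc, s.condition]
  · apply CartesianMonoidalCategory.hom_ext
    · rw [lift_fst, ← h1, Category.assoc, whiskerLeft_fst]
    · rw [lift_snd, h2]

theorem schDom_whisker {V W : Over S} (Y : Over S) (j : W ⟶ V) [Flat Y.hom] [QuasiCompact j.left]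
    [IsSchemeTheoreticallyDominant j.left] : IsSchemeTheoreticallyDominant (Y ◁ j).left := by
  have h1 : IsPullback (Y ◁ j).left (snd Y W).left (snd Y V).left j.left :=
    (isPullback_whisker Y j).map (Over.forget S)
  have h2 : Flat (snd Y V).left := (inferInstance : Flat (pullback.snd Y.hom V.hom))
  rw [← h1.isoPullback_hom_fst]
  infer_instance

/-- The generic point of a trait is dense. -/
theorem ext_of_gn {R : Type u} [CommRing R] [IsDomain R] (v : Spec (CommRingCat.of R) ⟶ S) {Y Z : Over S} [Flat Y.hom]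
    [IsSeparated Z.hom] {a b : Y ⊗ Over.mk v ⟶ Z} (h : (Y ◁ gj v) ≫ a = (Y ◁ gj v) ≫ b) : a = b := by
  have : Fact (Function.Injective (algebraMap R (FractionRing R))) := ⟨IsFractionRing.injective R _⟩
  have h1 : IsSchemeTheoreticallyDominant (gj v).left :=
    (inferInstance : IsSchemeTheoreticallyDominant (Spec.map (CommRingCat.ofHom (algebraMap R (FractionRing R)))))
  have h3 : QuasiCompact (gj v).left :=
    (inferInstance : QuasiCompact (Spec.map (CommRingCat.ofHom (algebraMap R (FractionRing R)))))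
  have h2 := schDom_whisker Y (gj v)
  apply Over.OverMorphism.ext
  exact Groth.Agent.Models.WeilPts.ext_of_schDominant Z.hom (by rw [Over.w, Over.w]) (Y ◁ gj v).left
    (by rw [← Over.comp_left, h, Over.comp_left])

/-- Néron property over a trait of `S`. -/
theorem exists_neron {R : Type u} [CommRing R] [IsDedekindDomain R] (v : Spec (CommRingCat.of R) ⟶ S) {A X : Over S}
    [GrpObj A] [IsProper A.hom] [Smooth X.hom] (a : X ⊗ gn v ⟶ A) : ∃ a' : X ⊗ Over.mk v ⟶ A, (X ◁ gj v) ≫ a' = a := by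
  have hp : IsProper (pullback.snd A.hom v) := inferInstance
  have hg : GrpObj (Over.mk (pullback.snd A.hom v)) := inferInstanceAs (GrpObj (Red.bc v A))
  let pX : (X ⊗ Over.mk v).left ⟶ Spec (CommRingCat.of R) := (snd X (Over.mk v)).left
  have hX' : Smooth pX := (inferInstance : Smooth (pullback.snd X.hom v))
  -- the square over the fraction field
  have h1 : IsPullback (X ◁ gj v).left (snd X (gn v)).left pX
      (Spec.map (CommRingCat.ofHom (algebraMap R (FractionRing R)))) :=
    (isPullback_whisker X (gj v)).map (Over.forget S)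
  let f₁ : (X ⊗ gn v).left ⟶ pullback A.hom v := pullback.lift a.left ((X ◁ gj v).left ≫ pX) (by
    rw [Over.w, h1.w]
    exact (Over.w (snd X (gn v))).symm)
  obtain ⟨u, ⟨hu1, hu2⟩, -⟩ := Groth.Agent.Models.WeilChart.existsUnique_extension (pullback.snd A.hom v) pX
    (FractionRing R) (h1.isoPullback.inv ≫ f₁) (by
      rw [Category.assoc, pullback.lift_snd, ← Category.assoc, h1.isoPullback_inv_fst])
  rw [← h1.isoPullback_inv_fst, Category.assoc, cancel_epi] at hu2
  refine ⟨Over.homMk (u ≫ pullback.fst A.hom v) ?_, Over.OverMorphism.ext ?_⟩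
  · rw [Category.assoc, pullback.condition, ← Category.assoc, hu1]
    exact Over.w (snd X (Over.mk v))
  · change (X ◁ gj v).left ≫ u ≫ pullback.fst A.hom v = a.left
    rw [← Category.assoc, hu2, pullback.lift_fst]

variable {T A : Over S} [GrpObj T] [IsCommMonObj T] [GrpObj A] [IsCommMonObj A] (D : Dat T A)

theorem ext_of_gn_sec {R : Type u} [CommRing R] [IsDomain R] (v : Spec (CommRingCat.of R) ⟶ S) [IsSeparated T.hom]
    [IsSeparated A.hom] {Y : Over S} [Flat Y.hom] (e e' : Γs D.E (Y ⊗ Over.mk v))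
    (h : r D.E (Y ◁ gj v) e = r D.E (Y ◁ gj v) e') : e = e' := by
  have h1 : m D.q (Y ⊗ Over.mk v) (e - e') = 0 := by
    rw [map_sub, sub_eq_zero]
    apply pt_injective
    refine ext_of_gn v ?_
    rw [← pt_r, ← pt_r, ← m_r, ← m_r, h]
  obtain ⟨a, ha⟩ := D.exists_i _ h1
  have h2 : a = 0 := by
    apply pt_injective
    refine ext_of_gn v ?_
    rw [← pt_r, ← pt_r]
    congr 1
    apply D.i_inj
    rw [m_r, m_r, ha, map_sub, h, sub_self, map_zero, map_zero]
  rw [h2, map_zero] at ha
  exact sub_eq_zero.mp ha.symm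

theorem isPullback_whiskerRight {X T : Over S} (p : X ⟶ T) (V : Over S) :
    IsPullback (p ▷ V) (fst X V) (fst T V) p := by
  refine IsPullback.of_isLimit' ⟨by rw [whiskerRight_fst]⟩ (PullbackCone.IsLimit.mk _
    (fun s => lift s.snd (s.fst ≫ snd T V)) (fun s => ?_) (fun s => lift_fst _ _) (fun s m h1 h2 => ?_))
  · apply CartesianMonoidalCategory.hom_ext
    · rw [Category.assoc, whiskerRight_fst, lift_fst_assoc, s.condition]
    · rw [Category.assoc, whiskerRight_snd, lift_snd]
  · apply CartesianMonoidalCategory.hom_ext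
    · rw [lift_fst, h2]
    · rw [lift_snd, ← h1, Category.assoc, whiskerRight_snd]

variable {D}

/-- The value of a restriction. -/
theorem ev_lift {V X W : Over S} (τ : Γs D.H V) (p : X ⟶ T) (x : W ⟶ X) (h : W ⟶ V) :
    r D.E (lift x h) (ev τ (snd X V) (sec (fst X V ≫ p))) = ev τ h (sec (x ≫ p)) := by
  rw [ev_r', lift_snd, r_sec, lift_fst_assoc]

/-- A given `n`-splitting over the generic point of a trait extends. -/
theorem exists_extend {X : Over S} (p : X ⟶ T) [Smooth p.left] [Surjective p.left] (e : Γs D.E X)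
    (he : m D.q X e = sec p) [Smooth T.hom] [IsSeparated T.hom] [IsProper A.hom] {R : Type u} [CommRing R]
    [IsDedekindDomain R] (v : Spec (CommRingCat.of R) ⟶ S) {n : ℕ} (τ : Γs D.H (gn v)) (hτ : D.IsNS n τ) :
    ∃ σ : Γs D.H (Over.mk v), D.IsNS n σ ∧ r D.H (gj v) σ = τ := by
  have hX : Smooth X.hom := by
    rw [← Over.w p]
    infer_instance
  have h1 : m D.q (X ⊗ gn v) (n • r D.E (fst X (gn v)) e - ev τ (snd X (gn v)) (sec (fst X (gn v) ≫ p))) = 0 := by
    rw [map_sub, map_nsmul, m_r, he, hτ, r_sec, sub_self]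
  obtain ⟨a, ha⟩ := D.exists_i _ h1
  obtain ⟨a', ha'⟩ := exists_neron v (pt a)
  let V : Over S := Over.mk v
  obtain ⟨s, hs⟩ : ∃ s : Γs D.E (X ⊗ V), s = n • r D.E (fst X V) e - m D.i (X ⊗ V) (sec a') := ⟨_, rfl⟩
  have hq : m D.q _ s = n • sec ((p ▷ V) ≫ fst T V) := by
    rw [hs, map_sub, map_nsmul, m_r, he, D.q_i, sub_zero, r_sec, whiskerRight_fst]
  have hres : r D.E (X ◁ gj v) s = ev τ (snd X (gn v)) (sec (fst X (gn v) ≫ p)) := by
    rw [hs, map_sub, map_nsmul, r_r, whiskerLeft_fst, ← m_r, r_sec, ha', sec_pt, ha]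
    abel
  have key : r D.E (Tri.x p ▷ V) s + r D.E (Tri.y p ▷ V) s = r D.E (Tri.z p ▷ V) s := by
    have := Tri.flat p
    refine ext_of_gn_sec D v _ _ ?_
    have hx : ∀ (x : Tri p ⟶ X), r D.E (Tri p ◁ gj v) (r D.E (x ▷ V) s) =
        ev τ (snd (Tri p) (gn v)) (sec (fst (Tri p) (gn v) ≫ x ≫ p)) := by
      intro x
      have h2 : (Tri p ◁ gj v) ≫ (x ▷ V) = lift (fst (Tri p) (gn v) ≫ x) (snd (Tri p) (gn v)) ≫ (X ◁ gj v) := by
        apply CartesianMonoidalCategory.hom_ext <;> simp [V]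
      rw [r_r, h2, ← r_r, hres, ev_lift, Category.assoc]
    rw [map_add, hx, hx, hx, ← Tri.w p, MonObj.comp_mul, sec_mul, map_add]
  have hcov : Dat.Cov (p ▷ V) := by
    have hpb : IsPullback (p ▷ V).left (fst X V).left (fst T V).left p.left :=
      (isPullback_whiskerRight p V).map (Over.forget S)
    have i1 : Flat (p ▷ V).left := MorphismProperty.of_isPullback hpb.flip inferInstance
    have i2 : LocallyOfFinitePresentation (p ▷ V).left := MorphismProperty.of_isPullback hpb.flip inferInstance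
    have i3 : Surjective (p ▷ V).left := MorphismProperty.of_isPullback hpb.flip inferInstance
    exact Dat.cov_of _
  obtain ⟨σ, hσ, hσ'⟩ := Dat.exists_of_add (D := D) (n := n) (p ▷ V) hcov s hq (fun W x y z hxz hyz hxyz => by
    simp only [whiskerRight_fst, whiskerRight_snd] at hxz hyz hxyz
    obtain ⟨l, hl1, hl2, hl3⟩ : ∃ l : W ⟶ Tri p, l ≫ Tri.x p = x ≫ fst X V ∧ l ≫ Tri.y p = y ≫ fst X V ∧
        l ≫ Tri.z p = z ≫ fst X V :=
      ⟨Tri.lift p _ _ _ (by simpa only [Category.assoc] using hxyz), Tri.lift_x _ _ _ _ _, Tri.lift_y _ _ _ _ _,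
        Tri.lift_z _ _ _ _ _⟩
    obtain ⟨k, hk1, hk2, hk3⟩ : ∃ k : W ⟶ Tri p ⊗ V, x = k ≫ (Tri.x p ▷ V) ∧ y = k ≫ (Tri.y p ▷ V) ∧
        z = k ≫ (Tri.z p ▷ V) := by
      refine ⟨lift l (z ≫ snd X V), ?_, ?_, ?_⟩
      · apply CartesianMonoidalCategory.hom_ext
        · rw [Category.assoc, whiskerRight_fst, lift_fst_assoc, hl1]
        · rw [Category.assoc, whiskerRight_snd, lift_snd, hxz]
      · apply CartesianMonoidalCategory.hom_ext
        · rw [Category.assoc, whiskerRight_fst, lift_fst_assoc, hl2]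
        · rw [Category.assoc, whiskerRight_snd, lift_snd, hyz]
      · apply CartesianMonoidalCategory.hom_ext
        · rw [Category.assoc, whiskerRight_fst, lift_fst_assoc, hl3]
        · rw [Category.assoc, whiskerRight_snd, lift_snd]
    rw [hk1, hk2, hk3, ← r_r, ← r_r, ← r_r, ← map_add, key])
  refine ⟨σ, hσ, ev_ext fun W g t => ?_⟩
  refine ext_local D.E _ _ fun w => ?_
  obtain ⟨W', k, x, i1, i2, i3, hx⟩ := (Dat.cov_of p).exists_lift (pt t) w
  refine ⟨W', k, i1, i2, i3, ?_⟩
  have ht : r (P T) k t = sec (x ≫ p) := by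
    rw [hx, ← pt_r, sec_pt]
  rw [ev_r', ev_r', ev_r, ht, ← ev_lift τ p x (k ≫ g), ← hres]
  have h4 := hσ' W' (lift x ((k ≫ g) ≫ gj v))
  simp only [whiskerRight_fst, whiskerRight_snd, lift_fst_assoc, lift_snd] at h4
  rw [h4, r_r]
  congr 2
  have h5 : lift x ((k ≫ g) ≫ gj v) = lift x (k ≫ g) ≫ (X ◁ gj v) := by
    apply CartesianMonoidalCategory.hom_ext <;> simp
  exact h5

end K629.DvrExt
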