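import Groth.Agent.AbSch.K452.NRep

/-!
# Extensions with an `n`-splitting are finite over the product

`0 → A → E → T → 0` exact, `A` an abelian scheme, `τ : T → E` lifting `n ≠ 0`: `E` is the sheaf of points of a group
scheme `G` with a finite morphism `G ⟶ A ⊗ T` (an `A[n]`-torsor).
-/

set_option autoImplicit false
universe u
open CategoryTheory CategoryTheory.Limits MonoidalCategory CartesianMonoidalCategory MonObj AlgebraicGeometry
open CGrpSh Opposite

namespace K629.FinRep

open K452.NSplit K452.NRep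
open K452.TorsRep hiding map_up up_inj

variable {S : Scheme.{u}}
variable {A T : Over S} [GrpObj A] [IsCommMonObj A] [GrpObj T] [IsCommMonObj T]
variable {E : BigSite.Ab Scheme.fppfPrecoverage S} (i : pts Scheme.fppfPrecoverage A ⟶ E)
  (q : E ⟶ pts Scheme.fppfPrecoverage T) (w : i ≫ q = 0) (hex : (ShortComplex.mk i q w).ShortExact)

include hex in
/-- **Representability of extensions with a splitting of a non-zero multiple**, finite over the product. -/
theorem exists_grp_finite [Smooth A.hom] [IsProper A.hom] (hA : ∀ s : S, ConnectedSpace ↥(A.hom.fiber s))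
    (n : ℤ) (hn : n ≠ 0) (τ : pts Scheme.fppfPrecoverage T ⟶ E) (hτ : τ ≫ q = n • 𝟙 _) :
    ∃ (G : Over S) (_ : GrpObj G) (_ : IsCommMonObj G) (v : G ⟶ A ⊗ T),
      Nonempty (pts Scheme.fppfPrecoverage G ≅ E) ∧ IsFinite v.left := by
  obtain ⟨N, _, _, j, _, hj⟩ := exists_torsion A n
  obtain ⟨ρ, hρ⟩ := exists_rho i q w hex n τ hτ
  have hse := shortExact_pair i q w hex hρ j hj (K454.MulEpi.epi_zsmul A hA n hn)
  have hgc := K454.geometricallyConnected_of_fibres A hA
  have hgr := K448.SmoothConn.geometricallyReduced A.hom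
  obtain ⟨h1, h2, h3⟩ := K454.MulEpi.isFinite_flat_surjective_zpow A n hn
  have hN : IsFinite N.hom := by
    have h4 : IsPullback j.left (toUnit N).left (𝟙 A ^ n).left η[A].left := hj.map (Over.forget S)
    have h5 : IsFinite (toUnit N).left := MorphismProperty.of_isPullback (P := @IsFinite) h4 h1
    exact h5
  let Q : MorphismProperty Scheme.{u} := @IsProper ⊓ @IsAffineHom
  have := K594.Local.isProper.{u}
  have := K594.Local.isAffineHom.{u}
  have hQ : Q.IsLocalAtTarget Scheme.fppfPrecoverage := MorphismProperty.IsLocalAtTarget.inf _ _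
  have hQF : Q ≤ @IsFinite := fun X Y f hf => by
    obtain ⟨a1, a2⟩ := hf
    exact IsFinite.iff_isProper_and_isAffineHom.mpr ⟨a1, a2⟩
  obtain ⟨G, g1, g2, v, hv, e, he, hfin⟩ := K452.TorsRep.exists_grp _ _ _ hse Q (fun _ _ f h => by
    have := hQF _ h
    exact ⟨inferInstance, inferInstance, inferInstance⟩) ⟨inferInstance, inferInstance⟩
  exact ⟨G, g1, g2, v, ⟨e⟩, hQF _ hfin⟩

end K629.FinRep
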