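import Groth.Agent.Sga2lef.H98.GoodLevel
import Groth.Agent.S17690

/-!
# Normalization of algebras of finite type over `ℤ`
-/

set_option autoImplicit false
universe u
open CategoryTheory CategoryTheory.Limits AlgebraicGeometry

namespace K629.NormCov

theorem finiteType_int_of_finite {R B : Type u} [CommRing R] [CommRing B] [Algebra R B] [hR : Algebra.FiniteType ℤ R]
    [Module.Finite R B] : Algebra.FiniteType ℤ B := by
  have hft0 : (algebraMap R B).FiniteType := RingHom.finiteType_algebraMap.2 inferInstance
  have hft1 : (algebraMap ℤ R).FiniteType := RingHom.finiteType_algebraMap.2 hR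
  have hft2 : ((algebraMap R B).comp (algebraMap ℤ R)).FiniteType := hft0.comp hft1
  have h5 : algebraMap ℤ B = (algebraMap R B).comp (algebraMap ℤ R) := Subsingleton.elim _ _
  rw [← h5] at hft2
  exact RingHom.finiteType_algebraMap.1 hft2

/-- The integral closure of a quotient by a prime ideal. -/
theorem exists_integralClosure (R : Type u) [CommRing R] [hR : Algebra.FiniteType ℤ R] (p : Ideal R) [p.IsPrime] :
    ∃ (B : Type u) (_ : CommRing B) (_ : Algebra R B), IsDomain B ∧ IsIntegrallyClosed B ∧ Algebra.FiniteType ℤ B ∧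
      Module.Finite R B ∧ ∀ q : PrimeSpectrum R, p ≤ q.asIdeal →
        q ∈ Set.range (PrimeSpectrum.comap (algebraMap R B)) := by
  have hN : CAlg.IsNagata R := Groth.Agent.Sga2lef.H98.GoodLevel.isNagata_of_finiteType_int R
  let Q := R ⧸ p
  let K := FractionRing Q
  have hQ := finiteType_int_of_finite (R := R) (B := Q)
  have hNQ : CAlg.IsNagata Q := @Groth.Agent.Sga2lef.H98.GoodLevel.isNagata_of_finiteType_int Q _ hQ
  have hfin : Module.Finite Q (integralClosure Q K) := Groth.Agent.S17690.finite_integralClosure Q K K hNQ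
  have hfin' : Module.Finite R (integralClosure Q K) := Module.Finite.trans Q _
  refine ⟨integralClosure Q K, inferInstance, inferInstance, inferInstance,
    integralClosure.isIntegrallyClosedOfFiniteExtension K, finiteType_int_of_finite (R := R), hfin', fun q hq => ?_⟩
  have h1 : (algebraMap Q (integralClosure Q K)).IsIntegral := Algebra.IsIntegral.isIntegral
  have hinj : Function.Injective (algebraMap Q (integralClosure Q K)) := by
    have h2 : Function.Injective (algebraMap Q K) := IsFractionRing.injective Q K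
    intro a b hab
    exact h2 (congrArg Subtype.val hab)
  have hs : Function.Surjective (PrimeSpectrum.comap (algebraMap Q (integralClosure Q K))) :=
    h1.comap_surjective hinj
  obtain ⟨q', hq'⟩ : q ∈ Set.range (PrimeSpectrum.comap (algebraMap R Q)) := by
    have h3 := range_comap_of_surjective Q (algebraMap R Q) Ideal.Quotient.mk_surjective
    rw [h3]
    change RingHom.ker (Ideal.Quotient.mk p) ≤ q.asIdeal
    rwa [Ideal.mk_ker]
  obtain ⟨q'', hq''⟩ := hs q'
  refine ⟨q'', ?_⟩
  rw [IsScalarTower.algebraMap_eq R Q (integralClosure Q K), PrimeSpectrum.comap_comp]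
  change PrimeSpectrum.comap _ (PrimeSpectrum.comap _ q'') = q
  rw [hq'', hq']

/-- The normalization of a ring of finite type over `ℤ`. -/
theorem exists_cover (R : Type u) [CommRing R] [hR : Algebra.FiniteType ℤ R] :
    ∃ (I : Type u) (_ : Finite I) (B : I → Type u) (_ : ∀ i, CommRing (B i)) (_ : ∀ i, Algebra R (B i)),
      (∀ i, IsDomain (B i)) ∧ (∀ i, IsIntegrallyClosed (B i)) ∧ (∀ i, Algebra.FiniteType ℤ (B i)) ∧
      (∀ i, Module.Finite R (B i)) ∧
      ∀ q : PrimeSpectrum R, ∃ i, q ∈ Set.range (PrimeSpectrum.comap (algebraMap R (B i))) := by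
  have hN : IsNoetherianRing R := (Groth.Agent.Sga2lef.H98.GoodLevel.isNagata_of_finiteType_int R).1
  have hf : (minimalPrimes R).Finite := minimalPrimes.finite_of_isNoetherianRing R
  have h : ∀ i : minimalPrimes R, ∃ (B : Type u) (_ : CommRing B) (_ : Algebra R B), IsDomain B ∧
      IsIntegrallyClosed B ∧ Algebra.FiniteType ℤ B ∧ Module.Finite R B ∧ ∀ q : PrimeSpectrum R, i.1 ≤ q.asIdeal →
        q ∈ Set.range (PrimeSpectrum.comap (algebraMap R B)) := fun i => by
    have : i.1.IsPrime := i.2.1.1
    exact exists_integralClosure R i.1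
  choose B h1 h2 h3 h4 h5 h6 h7 using h
  refine ⟨minimalPrimes R, hf.to_subtype, B, h1, h2, h3, h4, h5, h6, fun q => ?_⟩
  obtain ⟨p, hp, hpq⟩ := Ideal.exists_minimalPrimes_le (I := ⊥) (J := q.asIdeal) bot_le
  exact ⟨⟨p, hp⟩, h7 ⟨p, hp⟩ q hpq⟩

end K629.NormCov
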